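import Cfsg.Agent.Lib.Helper9.TCData.Fi22D0.Main

set_option autoImplicit false
set_option maxRecDepth 1000000

namespace Cfsg.Agent.Helper9.TCData.Fi22D0
open Cfsg.Agent.Helper9.TC2

theorem e4_0 : allRange 0 2301 (fun u => chkE tab 4 u) = true := by decide +kernel

theorem e4_1 : allRange 2301 1223 (fun u => chkE tab 4 u) = true := by decide +kernel

theorem e5_0 : allRange 0 2268 (fun u => chkE tab 5 u) = true := by decide +kernel

theorem e5_1 : allRange 2268 1256 (fun u => chkE tab 5 u) = true := by decide +kernel

theorem e6_0 : allRange 0 2305 (fun u => chkE tab 6 u) = true := by decide +kernel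

theorem e6_1 : allRange 2305 1219 (fun u => chkE tab 6 u) = true := by decide +kernel

theorem e7_0 : allRange 0 2449 (fun u => chkE tab 7 u) = true := by decide +kernel

theorem e7_1 : allRange 2449 1075 (fun u => chkE tab 7 u) = true := by decide +kernel


end Cfsg.Agent.Helper9.TCData.Fi22D0
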