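import Cfsg.Agent.Lib.Helper9.TCData.Fi22D0.Main

set_option autoImplicit false
set_option maxRecDepth 1000000

namespace Cfsg.Agent.Helper9.TCData.Fi22D0
open Cfsg.Agent.Helper9.TC2

theorem f_0 : allRange 0 276 (fun u => chkFin tab u) = true := by decide +kernel

theorem f_1 : allRange 276 276 (fun u => chkFin tab u) = true := by decide +kernel

theorem f_2 : allRange 552 276 (fun u => chkFin tab u) = true := by decide +kernel

theorem f_3 : allRange 828 276 (fun u => chkFin tab u) = true := by decide +kernel

theorem f_4 : allRange 1104 276 (fun u => chkFin tab u) = true := by decide +kernel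

theorem f_5 : allRange 1380 276 (fun u => chkFin tab u) = true := by decide +kernel

theorem f_6 : allRange 1656 276 (fun u => chkFin tab u) = true := by decide +kernel

theorem f_7 : allRange 1932 276 (fun u => chkFin tab u) = true := by decide +kernel


end Cfsg.Agent.Helper9.TCData.Fi22D0
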