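import Cfsg.Agent.Lib.Helper9.TCData.Fi22D0.S0
import Cfsg.Agent.Lib.Helper9.TCData.Fi22D0.S1
import Cfsg.Agent.Lib.Helper9.TCData.Fi22D0.S2
import Cfsg.Agent.Lib.Helper9.TCData.Fi22D0.S3
import Cfsg.Agent.Lib.Helper9.TCData.Fi22D0.S4
import Cfsg.Agent.Lib.Helper9.TCData.Fi22D0.S5
import Cfsg.Agent.Lib.Helper9.TCData.Fi22D0.S6
import Cfsg.Agent.Lib.Helper9.TCData.Fi22D0.S7
import Cfsg.Agent.Lib.Helper9.TCData.Fi22D0.S8
import Cfsg.Agent.Lib.Helper9.TCData.Fi22D0.S9
import Cfsg.Agent.Lib.Helper9.TCData.Fi22D0.S10
import Cfsg.Agent.Lib.Helper9.TCData.Fi22D0.S11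
import Cfsg.Agent.Lib.Helper9.TCData.Fi22D0.S12
import Cfsg.Agent.Lib.Helper9.TCData.Fi22D0.S13
import Cfsg.Agent.Lib.Helper9.TCData.Fi22D0.S14
import Cfsg.Agent.Lib.Helper9.TCData.Fi22D0.S15
import Cfsg.Agent.Lib.Helper9.TCData.Fi22D0.S16
import Cfsg.Agent.Lib.Helper9.TCData.Fi22D0.S17

set_option autoImplicit false
set_option maxRecDepth 1000000

namespace Cfsg.Agent.Helper9.TCData.Fi22D0
open Cfsg.Agent.Helper9.TC2


theorem hE0 : ∀ u < 3524, chkE tab 0 u = true := by
  have h0 : ∀ u < 0, (fun u => chkE tab 0 u) u = true := range_zero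
  have h1 : ∀ u < 2055, (fun u => chkE tab 0 u) u = true := ext_range (a := 0) (len := 2055) h0 e0_0
  have h2 : ∀ u < 3524, (fun u => chkE tab 0 u) u = true := ext_range (a := 2055) (len := 1469) h1 e0_1
  exact h2

theorem hE1 : ∀ u < 3524, chkE tab 1 u = true := by
  have h0 : ∀ u < 0, (fun u => chkE tab 1 u) u = true := range_zero
  have h1 : ∀ u < 2088, (fun u => chkE tab 1 u) u = true := ext_range (a := 0) (len := 2088) h0 e1_0
  have h2 : ∀ u < 3524, (fun u => chkE tab 1 u) u = true := ext_range (a := 2088) (len := 1436) h1 e1_1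
  exact h2

theorem hE2 : ∀ u < 3524, chkE tab 2 u = true := by
  have h0 : ∀ u < 0, (fun u => chkE tab 2 u) u = true := range_zero
  have h1 : ∀ u < 2155, (fun u => chkE tab 2 u) u = true := ext_range (a := 0) (len := 2155) h0 e2_0
  have h2 : ∀ u < 3524, (fun u => chkE tab 2 u) u = true := ext_range (a := 2155) (len := 1369) h1 e2_1
  exact h2

theorem hE3 : ∀ u < 3524, chkE tab 3 u = true := by
  have h0 : ∀ u < 0, (fun u => chkE tab 3 u) u = true := range_zero
  have h1 : ∀ u < 2174, (fun u => chkE tab 3 u) u = true := ext_range (a := 0) (len := 2174) h0 e3_0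
  have h2 : ∀ u < 3524, (fun u => chkE tab 3 u) u = true := ext_range (a := 2174) (len := 1350) h1 e3_1
  exact h2

theorem hE4 : ∀ u < 3524, chkE tab 4 u = true := by
  have h0 : ∀ u < 0, (fun u => chkE tab 4 u) u = true := range_zero
  have h1 : ∀ u < 2301, (fun u => chkE tab 4 u) u = true := ext_range (a := 0) (len := 2301) h0 e4_0
  have h2 : ∀ u < 3524, (fun u => chkE tab 4 u) u = true := ext_range (a := 2301) (len := 1223) h1 e4_1
  exact h2

theorem hE5 : ∀ u < 3524, chkE tab 5 u = true := by
  have h0 : ∀ u < 0, (fun u => chkE tab 5 u) u = true := range_zero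
  have h1 : ∀ u < 2268, (fun u => chkE tab 5 u) u = true := ext_range (a := 0) (len := 2268) h0 e5_0
  have h2 : ∀ u < 3524, (fun u => chkE tab 5 u) u = true := ext_range (a := 2268) (len := 1256) h1 e5_1
  exact h2

theorem hE6 : ∀ u < 3524, chkE tab 6 u = true := by
  have h0 : ∀ u < 0, (fun u => chkE tab 6 u) u = true := range_zero
  have h1 : ∀ u < 2305, (fun u => chkE tab 6 u) u = true := ext_range (a := 0) (len := 2305) h0 e6_0
  have h2 : ∀ u < 3524, (fun u => chkE tab 6 u) u = true := ext_range (a := 2305) (len := 1219) h1 e6_1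
  exact h2

theorem hE7 : ∀ u < 3524, chkE tab 7 u = true := by
  have h0 : ∀ u < 0, (fun u => chkE tab 7 u) u = true := range_zero
  have h1 : ∀ u < 2449, (fun u => chkE tab 7 u) u = true := ext_range (a := 0) (len := 2449) h0 e7_0
  have h2 : ∀ u < 3524, (fun u => chkE tab 7 u) u = true := ext_range (a := 2449) (len := 1075) h1 e7_1
  exact h2

theorem hE8 : ∀ u < 3524, chkE tab 8 u = true := by
  have h0 : ∀ u < 0, (fun u => chkE tab 8 u) u = true := range_zero
  have h1 : ∀ u < 2867, (fun u => chkE tab 8 u) u = true := ext_range (a := 0) (len := 2867) h0 e8_0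
  have h2 : ∀ u < 3524, (fun u => chkE tab 8 u) u = true := ext_range (a := 2867) (len := 657) h1 e8_1
  exact h2

theorem hL : ∀ u < 3524, chkL tab u = true := by
  have h0 : ∀ u < 0, (fun u => chkL tab u) u = true := range_zero
  have h1 : ∀ u < 3524, (fun u => chkL tab u) u = true := ext_range (a := 0) (len := 3524) h0 l_0
  exact h1

theorem hF : ∀ u < 3510, chkFin tab u = true := by
  have h0 : ∀ u < 0, (fun u => chkFin tab u) u = true := range_zero
  have h1 : ∀ u < 276, (fun u => chkFin tab u) u = true := ext_range (a := 0) (len := 276) h0 f_0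
  have h2 : ∀ u < 552, (fun u => chkFin tab u) u = true := ext_range (a := 276) (len := 276) h1 f_1
  have h3 : ∀ u < 828, (fun u => chkFin tab u) u = true := ext_range (a := 552) (len := 276) h2 f_2
  have h4 : ∀ u < 1104, (fun u => chkFin tab u) u = true := ext_range (a := 828) (len := 276) h3 f_3
  have h5 : ∀ u < 1380, (fun u => chkFin tab u) u = true := ext_range (a := 1104) (len := 276) h4 f_4
  have h6 : ∀ u < 1656, (fun u => chkFin tab u) u = true := ext_range (a := 1380) (len := 276) h5 f_5
  have h7 : ∀ u < 1932, (fun u => chkFin tab u) u = true := ext_range (a := 1656) (len := 276) h6 f_6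
  have h8 : ∀ u < 2208, (fun u => chkFin tab u) u = true := ext_range (a := 1932) (len := 276) h7 f_7
  have h9 : ∀ u < 2484, (fun u => chkFin tab u) u = true := ext_range (a := 2208) (len := 276) h8 f_8
  have h10 : ∀ u < 2760, (fun u => chkFin tab u) u = true := ext_range (a := 2484) (len := 276) h9 f_9
  have h11 : ∀ u < 3036, (fun u => chkFin tab u) u = true := ext_range (a := 2760) (len := 276) h10 f_10
  have h12 : ∀ u < 3312, (fun u => chkFin tab u) u = true := ext_range (a := 3036) (len := 276) h11 f_11
  have h13 : ∀ u < 3510, (fun u => chkFin tab u) u = true := ext_range (a := 3312) (len := 198) h12 f_12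
  exact h13

theorem hC : ∀ u < 3524, chkCls tab u = true := by
  have h0 : ∀ u < 0, (fun u => chkCls tab u) u = true := range_zero
  have h1 : ∀ u < 2667, (fun u => chkCls tab u) u = true := ext_range (a := 0) (len := 2667) h0 c_0
  have h2 : ∀ u < 3524, (fun u => chkCls tab u) u = true := ext_range (a := 2667) (len := 857) h1 c_1
  exact h2

theorem hM1 : ∀ u < 3510, chkM1 tab u = true := by
  have h0 : ∀ u < 0, (fun u => chkM1 tab u) u = true := range_zero
  have h1 : ∀ u < 708, (fun u => chkM1 tab u) u = true := ext_range (a := 0) (len := 708) h0 m1_0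
  have h2 : ∀ u < 1416, (fun u => chkM1 tab u) u = true := ext_range (a := 708) (len := 708) h1 m1_1
  have h3 : ∀ u < 2124, (fun u => chkM1 tab u) u = true := ext_range (a := 1416) (len := 708) h2 m1_2
  have h4 : ∀ u < 2832, (fun u => chkM1 tab u) u = true := ext_range (a := 2124) (len := 708) h3 m1_3
  have h5 : ∀ u < 3510, (fun u => chkM1 tab u) u = true := ext_range (a := 2832) (len := 678) h4 m1_4
  exact h5

theorem hMA : ∀ u < 3510, chkAux tab aux u = true := by
  have h0 : ∀ u < 0, (fun u => chkAux tab aux u) u = true := range_zero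
  have h1 : ∀ u < 507, (fun u => chkAux tab aux u) u = true := ext_range (a := 0) (len := 507) h0 ma_0
  have h2 : ∀ u < 1014, (fun u => chkAux tab aux u) u = true := ext_range (a := 507) (len := 507) h1 ma_1
  have h3 : ∀ u < 1521, (fun u => chkAux tab aux u) u = true := ext_range (a := 1014) (len := 507) h2 ma_2
  have h4 : ∀ u < 2028, (fun u => chkAux tab aux u) u = true := ext_range (a := 1521) (len := 507) h3 ma_3
  have h5 : ∀ u < 2535, (fun u => chkAux tab aux u) u = true := ext_range (a := 2028) (len := 507) h4 ma_4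
  have h6 : ∀ u < 3042, (fun u => chkAux tab aux u) u = true := ext_range (a := 2535) (len := 507) h5 ma_5
  have h7 : ∀ u < 3510, (fun u => chkAux tab aux u) u = true := ext_range (a := 3042) (len := 468) h6 ma_6
  exact h7

theorem hM2A : ∀ u < 3510, chkFix tab mwordsA u = true := by
  have h0 : ∀ u < 0, (fun u => chkFix tab mwordsA u) u = true := range_zero
  have h1 : ∀ u < 71, (fun u => chkFix tab mwordsA u) u = true := ext_range (a := 0) (len := 71) h0 m2_0
  have h2 : ∀ u < 142, (fun u => chkFix tab mwordsA u) u = true := ext_range (a := 71) (len := 71) h1 m2_1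
  have h3 : ∀ u < 213, (fun u => chkFix tab mwordsA u) u = true := ext_range (a := 142) (len := 71) h2 m2_2
  have h4 : ∀ u < 284, (fun u => chkFix tab mwordsA u) u = true := ext_range (a := 213) (len := 71) h3 m2_3
  have h5 : ∀ u < 355, (fun u => chkFix tab mwordsA u) u = true := ext_range (a := 284) (len := 71) h4 m2_4
  have h6 : ∀ u < 426, (fun u => chkFix tab mwordsA u) u = true := ext_range (a := 355) (len := 71) h5 m2_5
  have h7 : ∀ u < 497, (fun u => chkFix tab mwordsA u) u = true := ext_range (a := 426) (len := 71) h6 m2_6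
  have h8 : ∀ u < 568, (fun u => chkFix tab mwordsA u) u = true := ext_range (a := 497) (len := 71) h7 m2_7
  have h9 : ∀ u < 639, (fun u => chkFix tab mwordsA u) u = true := ext_range (a := 568) (len := 71) h8 m2_8
  have h10 : ∀ u < 710, (fun u => chkFix tab mwordsA u) u = true := ext_range (a := 639) (len := 71) h9 m2_9
  have h11 : ∀ u < 781, (fun u => chkFix tab mwordsA u) u = true := ext_range (a := 710) (len := 71) h10 m2_10
  have h12 : ∀ u < 852, (fun u => chkFix tab mwordsA u) u = true := ext_range (a := 781) (len := 71) h11 m2_11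
  have h13 : ∀ u < 923, (fun u => chkFix tab mwordsA u) u = true := ext_range (a := 852) (len := 71) h12 m2_12
  have h14 : ∀ u < 994, (fun u => chkFix tab mwordsA u) u = true := ext_range (a := 923) (len := 71) h13 m2_13
  have h15 : ∀ u < 1065, (fun u => chkFix tab mwordsA u) u = true := ext_range (a := 994) (len := 71) h14 m2_14
  have h16 : ∀ u < 1136, (fun u => chkFix tab mwordsA u) u = true := ext_range (a := 1065) (len := 71) h15 m2_15
  have h17 : ∀ u < 1207, (fun u => chkFix tab mwordsA u) u = true := ext_range (a := 1136) (len := 71) h16 m2_16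
  have h18 : ∀ u < 1278, (fun u => chkFix tab mwordsA u) u = true := ext_range (a := 1207) (len := 71) h17 m2_17
  have h19 : ∀ u < 1349, (fun u => chkFix tab mwordsA u) u = true := ext_range (a := 1278) (len := 71) h18 m2_18
  have h20 : ∀ u < 1420, (fun u => chkFix tab mwordsA u) u = true := ext_range (a := 1349) (len := 71) h19 m2_19
  have h21 : ∀ u < 1491, (fun u => chkFix tab mwordsA u) u = true := ext_range (a := 1420) (len := 71) h20 m2_20
  have h22 : ∀ u < 1562, (fun u => chkFix tab mwordsA u) u = true := ext_range (a := 1491) (len := 71) h21 m2_21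
  have h23 : ∀ u < 1633, (fun u => chkFix tab mwordsA u) u = true := ext_range (a := 1562) (len := 71) h22 m2_22
  have h24 : ∀ u < 1704, (fun u => chkFix tab mwordsA u) u = true := ext_range (a := 1633) (len := 71) h23 m2_23
  have h25 : ∀ u < 1775, (fun u => chkFix tab mwordsA u) u = true := ext_range (a := 1704) (len := 71) h24 m2_24
  have h26 : ∀ u < 1846, (fun u => chkFix tab mwordsA u) u = true := ext_range (a := 1775) (len := 71) h25 m2_25
  have h27 : ∀ u < 1917, (fun u => chkFix tab mwordsA u) u = true := ext_range (a := 1846) (len := 71) h26 m2_26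
  have h28 : ∀ u < 1988, (fun u => chkFix tab mwordsA u) u = true := ext_range (a := 1917) (len := 71) h27 m2_27
  have h29 : ∀ u < 2059, (fun u => chkFix tab mwordsA u) u = true := ext_range (a := 1988) (len := 71) h28 m2_28
  have h30 : ∀ u < 2130, (fun u => chkFix tab mwordsA u) u = true := ext_range (a := 2059) (len := 71) h29 m2_29
  have h31 : ∀ u < 2201, (fun u => chkFix tab mwordsA u) u = true := ext_range (a := 2130) (len := 71) h30 m2_30
  have h32 : ∀ u < 2272, (fun u => chkFix tab mwordsA u) u = true := ext_range (a := 2201) (len := 71) h31 m2_31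
  have h33 : ∀ u < 2343, (fun u => chkFix tab mwordsA u) u = true := ext_range (a := 2272) (len := 71) h32 m2_32
  have h34 : ∀ u < 2414, (fun u => chkFix tab mwordsA u) u = true := ext_range (a := 2343) (len := 71) h33 m2_33
  have h35 : ∀ u < 2485, (fun u => chkFix tab mwordsA u) u = true := ext_range (a := 2414) (len := 71) h34 m2_34
  have h36 : ∀ u < 2556, (fun u => chkFix tab mwordsA u) u = true := ext_range (a := 2485) (len := 71) h35 m2_35
  have h37 : ∀ u < 2627, (fun u => chkFix tab mwordsA u) u = true := ext_range (a := 2556) (len := 71) h36 m2_36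
  have h38 : ∀ u < 2698, (fun u => chkFix tab mwordsA u) u = true := ext_range (a := 2627) (len := 71) h37 m2_37
  have h39 : ∀ u < 2769, (fun u => chkFix tab mwordsA u) u = true := ext_range (a := 2698) (len := 71) h38 m2_38
  have h40 : ∀ u < 2840, (fun u => chkFix tab mwordsA u) u = true := ext_range (a := 2769) (len := 71) h39 m2_39
  have h41 : ∀ u < 2911, (fun u => chkFix tab mwordsA u) u = true := ext_range (a := 2840) (len := 71) h40 m2_40
  have h42 : ∀ u < 2982, (fun u => chkFix tab mwordsA u) u = true := ext_range (a := 2911) (len := 71) h41 m2_41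
  have h43 : ∀ u < 3053, (fun u => chkFix tab mwordsA u) u = true := ext_range (a := 2982) (len := 71) h42 m2_42
  have h44 : ∀ u < 3124, (fun u => chkFix tab mwordsA u) u = true := ext_range (a := 3053) (len := 71) h43 m2_43
  have h45 : ∀ u < 3195, (fun u => chkFix tab mwordsA u) u = true := ext_range (a := 3124) (len := 71) h44 m2_44
  have h46 : ∀ u < 3266, (fun u => chkFix tab mwordsA u) u = true := ext_range (a := 3195) (len := 71) h45 m2_45
  have h47 : ∀ u < 3337, (fun u => chkFix tab mwordsA u) u = true := ext_range (a := 3266) (len := 71) h46 m2_46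
  have h48 : ∀ u < 3408, (fun u => chkFix tab mwordsA u) u = true := ext_range (a := 3337) (len := 71) h47 m2_47
  have h49 : ∀ u < 3479, (fun u => chkFix tab mwordsA u) u = true := ext_range (a := 3408) (len := 71) h48 m2_48
  have h50 : ∀ u < 3510, (fun u => chkFix tab mwordsA u) u = true := ext_range (a := 3479) (len := 31) h49 m2_49
  exact h50

theorem hO1 : ∀ u < 3510, chkO1 tab orb u = true := by
  have h0 : ∀ u < 0, (fun u => chkO1 tab orb u) u = true := range_zero
  have h1 : ∀ u < 197, (fun u => chkO1 tab orb u) u = true := ext_range (a := 0) (len := 197) h0 o1_0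
  have h2 : ∀ u < 394, (fun u => chkO1 tab orb u) u = true := ext_range (a := 197) (len := 197) h1 o1_1
  have h3 : ∀ u < 591, (fun u => chkO1 tab orb u) u = true := ext_range (a := 394) (len := 197) h2 o1_2
  have h4 : ∀ u < 788, (fun u => chkO1 tab orb u) u = true := ext_range (a := 591) (len := 197) h3 o1_3
  have h5 : ∀ u < 985, (fun u => chkO1 tab orb u) u = true := ext_range (a := 788) (len := 197) h4 o1_4
  have h6 : ∀ u < 1182, (fun u => chkO1 tab orb u) u = true := ext_range (a := 985) (len := 197) h5 o1_5
  have h7 : ∀ u < 1379, (fun u => chkO1 tab orb u) u = true := ext_range (a := 1182) (len := 197) h6 o1_6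
  have h8 : ∀ u < 1576, (fun u => chkO1 tab orb u) u = true := ext_range (a := 1379) (len := 197) h7 o1_7
  have h9 : ∀ u < 1773, (fun u => chkO1 tab orb u) u = true := ext_range (a := 1576) (len := 197) h8 o1_8
  have h10 : ∀ u < 1970, (fun u => chkO1 tab orb u) u = true := ext_range (a := 1773) (len := 197) h9 o1_9
  have h11 : ∀ u < 2167, (fun u => chkO1 tab orb u) u = true := ext_range (a := 1970) (len := 197) h10 o1_10
  have h12 : ∀ u < 2364, (fun u => chkO1 tab orb u) u = true := ext_range (a := 2167) (len := 197) h11 o1_11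
  have h13 : ∀ u < 2561, (fun u => chkO1 tab orb u) u = true := ext_range (a := 2364) (len := 197) h12 o1_12
  have h14 : ∀ u < 2758, (fun u => chkO1 tab orb u) u = true := ext_range (a := 2561) (len := 197) h13 o1_13
  have h15 : ∀ u < 2955, (fun u => chkO1 tab orb u) u = true := ext_range (a := 2758) (len := 197) h14 o1_14
  have h16 : ∀ u < 3152, (fun u => chkO1 tab orb u) u = true := ext_range (a := 2955) (len := 197) h15 o1_15
  have h17 : ∀ u < 3349, (fun u => chkO1 tab orb u) u = true := ext_range (a := 3152) (len := 197) h16 o1_16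
  have h18 : ∀ u < 3510, (fun u => chkO1 tab orb u) u = true := ext_range (a := 3349) (len := 161) h17 o1_17
  exact h18

theorem hO2 : ∀ u < 3510, chkO2 tab orb u = true := by
  have h0 : ∀ u < 0, (fun u => chkO2 tab orb u) u = true := range_zero
  have h1 : ∀ u < 1334, (fun u => chkO2 tab orb u) u = true := ext_range (a := 0) (len := 1334) h0 o2_0
  have h2 : ∀ u < 2668, (fun u => chkO2 tab orb u) u = true := ext_range (a := 1334) (len := 1334) h1 o2_1
  have h3 : ∀ u < 3510, (fun u => chkO2 tab orb u) u = true := ext_range (a := 2668) (len := 842) h2 o2_2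
  exact h3

theorem hOL : ∀ u < 3510, Nat.blt (orb.lab u) 3 = true := by
  have h0 : ∀ u < 0, (fun u => Nat.blt (orb.lab u) 3) u = true := range_zero
  have h1 : ∀ u < 3510, (fun u => Nat.blt (orb.lab u) 3) u = true := ext_range (a := 0) (len := 3510) h0 ol_0
  exact h1

theorem hE : ∀ c < 9, ∀ u < 3524, chkE tab c u = true := by
  intro c hc
  interval_cases c
  · exact hE0
  · exact hE1
  · exact hE2
  · exact hE3
  · exact hE4
  · exact hE5
  · exact hE6
  · exact hE7
  · exact hE8

end Cfsg.Agent.Helper9.TCData.Fi22D0
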