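import Mathlib
import Cfsg.Prelude.Def_Spor_Fi22
import Cfsg.Agent.Lib.Helper9.TC2Cox
import Cfsg.Agent.Lib.Helper9.TC2Aux
import Cfsg.Agent.Lib.Helper9.TC2Chain
import Cfsg.Agent.Lib.Helper9.TCData.Fi22D0.All

set_option autoImplicit false
set_option maxRecDepth 1000000

namespace Cfsg.Agent.Helper9.TCData.Fi22D0

open Cfsg.Agent.Helper9.TC2 Cfsg.Spor Cfsg.Spor.Fi22

/-- The generators. -/
abbrev Gen := Cfsg.Spor.Fi22.Gen

/-- The graph. -/
abbrev edges : List (Gen × ℕ × Gen) := Cfsg.Spor.Fi22.edges

/-- The further relators. -/
abbrev extra : List (FreeGroup Gen) := Cfsg.Spor.Fi22.extra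

/-- The columns: generators with signs. -/
def cols : List (Gen × Bool) := [(.a, true), (.b, true), (.c, true), (.d, true), (.e, true), (.f, true), (.g, true), (.h, true), (.i, true)]

/-- The nodes of the graph. -/
def nodes : List Gen := [.a, .b, .c, .d, .e, .f, .g, .h, .i]

/-- The generators of the subgroup. -/
def sgens : List (FreeGroup Gen) := [a, c, d, e, f, g, h, i, (a * b * c * d * e * h) ^ 5]

theorem relWords_eq : relWords = (relList edges extra nodes).map (colWord cols) := by
  decide +kernel

theorem rot_ok : chkRotSrc relWords rotSrc rotT.leaves = true := by decide +kernel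

theorem permOK : PermOK tab := ⟨by decide, by decide, hM1⟩

theorem hM2 : ∀ i < tab.n, chkFix tab (mwordsA.map (expand tab.k aux)) i = true :=
  chkFix_expand permOK (by decide) hMA (by decide) hM2A

/-- The certificate. -/
noncomputable def cert : CoxCert edges extra (({a, c, d, e, f, g, h, i, (a * b * c * d * e * h) ^ 5} : Set (FreeGroup Gen))) where
  cols := cols
  nodes := nodes
  sgens := sgens
  D := tab
  mwords := mwordsA.map (expand tab.k aux)
  hcols := ⟨by intro x; cases x <;> decide, by decide, by intro x; cases x <;> decide,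
    by intro x; cases x <;> decide⟩
  hnodes1 := by decide
  hnodes2 := by decide
  hS := by
    ext s
    simp only [Set.mem_insert_iff, Set.mem_singleton_iff, Set.mem_ofPred_eq, sgens, List.mem_cons,
      List.mem_nil_iff, or_false]
  hk := rfl
  hinv := by decide
  hinv2 := by decide
  hrot := by
    intro i
    have h := chkRotSrc_sound rot_ok _ (rotT.getF_mem_leaves i)
    rw [relWords_eq] at h
    exact h
  hsubs := by decide +kernel
  hdead := by decide +kernel
  hn0 := by decide
  hrep0 := by decide +kernel
  hE := hE
  hL := hL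
  hF := hF
  hC := hC
  hM1 := hM1
  hmw1 := by decide +kernel
  hmw2 := by decide +kernel
  hM2 := hM2
  hM3 := by decide +kernel

theorem cert_n : cert.D.n = 3510 := rfl

end Cfsg.Agent.Helper9.TCData.Fi22D0
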